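import Mathlib

/-!
Galois descent for matrices over a field with an automorphism of finite order: Hilbert 90 for `GL_n`, and
surjectivity of the norm over finite fields.
-/

set_option autoImplicit false

open Matrix

namespace Cfsg.Agent.FieldExt

variable {F : Type*} [Field F] {n : ℕ}

/-- A field automorphism applied to the entries of an invertible matrix. -/
abbrev glMap (σ : F ≃+* F) : GL (Fin n) F →* GL (Fin n) F := Matrix.GeneralLinearGroup.map σ.toRingHom

theorem glMap_val (σ : F ≃+* F) (g : GL (Fin n) F) : (glMap σ g).val = g.val.map σ := rfl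

theorem glMap_one (g : GL (Fin n) F) : glMap (1 : F ≃+* F) g = g := Units.ext (by ext i j; rfl)

theorem glMap_mul (σ τ : F ≃+* F) (g : GL (Fin n) F) : glMap (σ * τ) g = glMap σ (glMap τ g) :=
  Units.ext (by ext i j; rfl)

/-- The twisted norm `g σ(g) ⋯ σᵏ⁻¹(g)`. -/
def twistNorm (σ : F ≃+* F) (g : GL (Fin n) F) : ℕ → GL (Fin n) F
  | 0 => 1
  | k + 1 => g * glMap σ (twistNorm σ g k)

@[simp] theorem twistNorm_zero (σ : F ≃+* F) (g : GL (Fin n) F) : twistNorm σ g 0 = 1 := rfl

theorem twistNorm_succ (σ : F ≃+* F) (g : GL (Fin n) F) (k : ℕ) :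
    twistNorm σ g (k + 1) = g * glMap σ (twistNorm σ g k) := rfl

theorem twistNorm_add (σ : F ≃+* F) (g : GL (Fin n) F) (a b : ℕ) :
    twistNorm σ g (a + b) = twistNorm σ g a * glMap (σ ^ a) (twistNorm σ g b) := by
  induction a with
  | zero => rw [twistNorm_zero, zero_add, pow_zero, glMap_one, one_mul]
  | succ a ih =>
    rw [Nat.succ_add, twistNorm_succ, ih, map_mul, twistNorm_succ, mul_assoc, pow_succ', glMap_mul]

theorem twistNorm_mul_scalar (σ : F ≃+* F) (g : GL (Fin n) F) (z : Fˣ) (k : ℕ) :
    twistNorm σ (g * Matrix.GeneralLinearGroup.scalar (Fin n) z) k =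
      twistNorm σ g k *
        Matrix.GeneralLinearGroup.scalar (Fin n)
          (∏ i ∈ Finset.range k, Units.map ((σ ^ i : F ≃+* F) : F →* F) z) := by
  have hc : ∀ (u : Fˣ) (h : GL (Fin n) F),
      Matrix.GeneralLinearGroup.scalar (Fin n) u * h = h * Matrix.GeneralLinearGroup.scalar (Fin n) u := by
    intro u h
    refine Units.ext ?_
    ext i j
    simp [Matrix.GeneralLinearGroup.coe_scalar, Matrix.diagonal_mul, Matrix.mul_diagonal, mul_comm]
  induction k with
  | zero => simp
  | succ k ih =>
    have hs : ∀ u : Fˣ, glMap σ (Matrix.GeneralLinearGroup.scalar (Fin n) u) =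
        Matrix.GeneralLinearGroup.scalar (Fin n) (Units.map (σ : F →* F) u) := by
      intro u
      refine Units.ext ?_
      ext i j
      rcases eq_or_ne i j with rfl | hij <;>
        simp [glMap_val, Matrix.GeneralLinearGroup.coe_scalar, *]
    rw [twistNorm_succ, twistNorm_succ, ih, map_mul, hs, Finset.prod_range_succ']
    simp only [pow_succ', map_prod]
    rw [mul_assoc g, ← mul_assoc (Matrix.GeneralLinearGroup.scalar (Fin n) z), hc z, mul_assoc (glMap σ _),
      ← map_mul, mul_comm z, ← mul_assoc g]
    simp [Units.map_id]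
    rfl

/-- **Hilbert 90 for `GL_n`**: a cocycle for a cyclic group of automorphisms is a coboundary. -/
theorem exists_descent (σ : F ≃+* F) {r : ℕ} (hr : 0 < r) (hσ : orderOf σ = r) (g : GL (Fin n) F)
    (hg : twistNorm σ g r = 1) : ∃ h : GL (Fin n) F, g * glMap σ h = h := by
  classical
  let T : (Fin n → F) → (Fin n → F) := fun v => g.val *ᵥ (σ ∘ v)
  have hTadd : ∀ v w, T (v + w) = T v + T w := by
    intro v w
    simp only [T]
    rw [← Matrix.mulVec_add]
    congr 1
    ext i
    simp
  have hTsmul : ∀ (a : F) v, T (a • v) = σ a • T v := by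
    intro a v
    simp only [T]
    rw [← Matrix.mulVec_smul]
    congr 1
    ext i
    simp
  have hTk : ∀ (k : ℕ) v, T^[k] v = (twistNorm σ g k).val *ᵥ ((σ ^ k : F ≃+* F) ∘ v) := by
    intro k
    induction k with
    | zero => intro v; simp [RingAut.one_apply, Function.comp_def]
    | succ k ih =>
      intro v
      rw [Function.iterate_succ_apply', ih, twistNorm_succ, Units.val_mul, ← Matrix.mulVec_mulVec]
      simp only [T, glMap_val]
      congr 1
      funext i
      rw [Function.comp_apply]
      refine (RingHom.map_mulVec σ.toRingHom _ _ i).trans ?_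
      congr 1
      funext j
      simp [pow_succ']
  have hTr : ∀ v, T^[r] v = v := by
    intro v
    rw [hTk, hg, ← hσ, pow_orderOf_eq_one]
    simp [RingAut.one_apply, Function.comp_def]
  let W : Set (Fin n → F) := {v | T v = v}
  have hW : Submodule.span F W = ⊤ := by
    by_contra hne
    obtain ⟨ψ, hψ0, hψ⟩ := Submodule.exists_le_ker_of_lt_top _ (lt_top_iff_ne_top.2 hne)
    apply hψ0
    refine LinearMap.ext fun v => ?_
    have hw : ∀ a : F, (∑ i ∈ Finset.range r, T^[i] (a • v)) ∈ W := by
      intro a
      show T _ = _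
      have hsum : ∀ (s : Finset ℕ) (f : ℕ → Fin n → F), T (∑ i ∈ s, f i) = ∑ i ∈ s, T (f i) := by
        intro s f
        exact map_sum (AddMonoidHom.mk' T hTadd) f s
      rw [hsum]
      simp only [← Function.iterate_succ_apply' T]
      have h1 := Finset.sum_range_succ' (fun i => T^[i] (a • v)) r
      rw [Finset.sum_range_succ] at h1
      rw [hTr, Function.iterate_zero_apply] at h1
      exact (add_right_cancel h1).symm
    have hiter : ∀ (i : ℕ) (a : F), T^[i] (a • v) = (σ ^ i : F ≃+* F) a • T^[i] v := by
      intro i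
      induction i with
      | zero => intro a; simp [RingAut.one_apply]
      | succ i ih =>
        intro a
        rw [Function.iterate_succ_apply', ih, hTsmul, Function.iterate_succ_apply', pow_succ']
        rfl
    let χ : Fin r → (F →* F) := fun i => ((σ ^ (i : ℕ) : F ≃+* F) : F →* F)
    have hχ : Function.Injective χ := by
      intro i j hij
      have he : σ ^ (i : ℕ) = σ ^ (j : ℕ) := RingEquiv.ext fun x => DFunLike.congr_fun hij x
      exact Fin.ext (pow_injOn_Iio_orderOf (by rw [hσ]; exact i.2) (by rw [hσ]; exact j.2) he)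
    have hli := (linearIndependent_monoidHom F F).comp χ hχ
    have h0 := Fintype.linearIndependent_iff.1 hli (fun i => ψ (T^[(i : ℕ)] v)) (by
      funext a
      have := LinearMap.mem_ker.1 (hψ (Submodule.subset_span (hw a)))
      rw [map_sum, ← Fin.sum_univ_eq_sum_range (fun i => ψ (T^[i] (a • v)))] at this
      simp only [hiter, map_smul, smul_eq_mul] at this
      rw [Finset.sum_apply]
      simpa [χ, mul_comm] using this) ⟨0, hr⟩
    simpa using h0
  obtain ⟨b, hbW, hspan, hli⟩ := exists_linearIndependent F W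
  let B : Module.Basis b F (Fin n → F) := Module.Basis.mk hli (by rw [Subtype.range_coe, hspan, hW])
  let e : b ≃ Fin n := B.indexEquiv (Pi.basisFun F (Fin n))
  let M : Matrix (Fin n) (Fin n) F := Matrix.of fun i j => (e.symm j : Fin n → F) i
  have hM : IsUnit M.det := by
    rw [← Matrix.isUnit_iff_isUnit_det, ← Matrix.linearIndependent_cols_iff_isUnit]
    exact hli.comp e.symm e.symm.injective
  refine ⟨Matrix.nonsingInvUnit M hM, Units.ext ?_⟩
  rw [Units.val_mul, glMap_val]
  ext i j
  have := congrFun (hbW (e.symm j).2) i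
  show (g.val * M.map σ) i j = M i j
  simpa [T, Matrix.mul_apply, Matrix.mulVec, dotProduct, M] using this

/-- Over a finite field the norm of a cyclic automorphism reaches every fixed element. -/
theorem exists_prod_eq [Fintype F] (σ : F ≃+* F) {r : ℕ} (hr : 0 < r) (hσ : orderOf σ = r) (c : Fˣ)
    (hc : σ (c : F) = c) : ∃ z : Fˣ, ∏ i ∈ Finset.range r, Units.map ((σ ^ i : F ≃+* F) : F →* F) z = c := by
  classical
  let N : Fˣ →* Fˣ :=
    { toFun := fun z => ∏ i ∈ Finset.range r, Units.map ((σ ^ i : F ≃+* F) : F →* F) z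
      map_one' := by simp
      map_mul' := fun a b => by simp [Finset.prod_mul_distrib] }
  let s : Fˣ →* Fˣ := Units.map (σ : F →* F)
  let D : Fˣ →* Fˣ :=
    { toFun := fun y => y * (s y)⁻¹
      map_one' := by simp
      map_mul' := fun a b => by rw [map_mul, mul_inv]; exact mul_mul_mul_comm _ _ _ _ }
  let Fix : Subgroup Fˣ := D.ker
  have hfix : ∀ y, y ∈ Fix ↔ s y = y := by
    intro y
    simp only [Fix, MonoidHom.mem_ker, D, MonoidHom.coe_mk, OneHom.coe_mk, mul_inv_eq_one]
    exact eq_comm
  have hNfix : N.range ≤ Fix := by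
    rintro _ ⟨z, rfl⟩
    rw [hfix]
    simp only [N, s, MonoidHom.coe_mk, OneHom.coe_mk, map_prod]
    have h1 := Finset.prod_range_succ' (fun i => Units.map ((σ ^ i : F ≃+* F) : F →* F) z) r
    rw [Finset.prod_range_succ] at h1
    have hlast : Units.map ((σ ^ r : F ≃+* F) : F →* F) z = Units.map ((σ ^ 0 : F ≃+* F) : F →* F) z := by
      rw [← hσ, pow_orderOf_eq_one, pow_zero]
    rw [hlast] at h1
    refine Eq.trans (Finset.prod_congr rfl fun i _ => Units.ext ?_) (mul_right_cancel h1).symm
    simp [pow_succ']
  have hker : N.ker ≤ D.range := by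
    intro z hz
    let g : GL (Fin 1) F := Matrix.GeneralLinearGroup.scalar (Fin 1) z
    have hg : twistNorm σ g r = 1 := by
      have h1 : ∀ k, twistNorm σ (1 : GL (Fin 1) F) k = 1 := by
        intro k
        induction k with
        | zero => rfl
        | succ k ih => rw [twistNorm_succ, ih, map_one, mul_one]
      have := twistNorm_mul_scalar σ (1 : GL (Fin 1) F) z r
      rw [one_mul, h1, one_mul] at this
      rw [this, show (∏ i ∈ Finset.range r, Units.map ((σ ^ i : F ≃+* F) : F →* F) z) = N z from rfl,
        MonoidHom.mem_ker.1 hz, map_one]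
    obtain ⟨h, hh⟩ := exists_descent σ hr hσ g hg
    have hh0 : h.val 0 0 ≠ 0 := by
      intro h0
      have := (Matrix.isUnit_iff_isUnit_det _).1 h.isUnit
      rw [Matrix.det_fin_one, h0] at this
      exact not_isUnit_zero this
    refine ⟨Units.mk0 _ hh0, ?_⟩
    have := congrArg (fun A : GL (Fin 1) F => A.val 0 0) hh
    simp [g, Matrix.mul_apply, glMap_val, Matrix.GeneralLinearGroup.coe_scalar] at this
    simp only [D, s, MonoidHom.coe_mk, OneHom.coe_mk]
    rw [mul_inv_eq_iff_eq_mul]
    refine Units.ext ?_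
    simpa using this.symm
  have hcard : Nat.card Fix ≤ Nat.card N.range := by
    have e1 := Subgroup.card_mul_index N.ker
    rw [Subgroup.index_ker] at e1
    have e2 := Subgroup.card_mul_index D.ker
    rw [Subgroup.index_ker] at e2
    have e3 : Nat.card N.ker ≤ Nat.card D.range := Nat.card_le_card_of_injective _ (Subgroup.inclusion_injective hker)
    have hpos : 0 < Nat.card D.range := Nat.card_pos
    refine Nat.le_of_mul_le_mul_left ?_ hpos
    calc Nat.card D.range * Nat.card Fix = Nat.card Fˣ := by rw [mul_comm]; exact e2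
      _ = Nat.card N.ker * Nat.card N.range := e1.symm
      _ ≤ Nat.card D.range * Nat.card N.range := Nat.mul_le_mul_right _ e3
  have heq := Subgroup.eq_of_le_of_card_ge hNfix hcard
  have hcm : c ∈ Fix := (hfix c).2 (Units.ext hc)
  rw [← heq] at hcm
  exact hcm

end Cfsg.Agent.FieldExt
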