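import Mathlib

/-!
The quadratic extension of a finite field: a field with `q²` elements is an algebra of dimension 2 over a field
with `q` elements, and contains the roots of every quadratic polynomial.
-/

set_option autoImplicit false

namespace Cfsg.Agent.FieldExt

/-- A field `K` with `(#F)^d` elements receives a ring homomorphism from `F`. -/
theorem exists_ringHom_of_card_pow {F K : Type*} [Field F] [Fintype F] [Field K] [Fintype K] {d : ℕ}
    (hd : d ≠ 0) (h : Fintype.card K = Fintype.card F ^ d) : Nonempty (F →+* K) := by
  obtain ⟨p, hp⟩ := CharP.exists F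
  obtain ⟨r, hr⟩ := CharP.exists K
  obtain ⟨n, hpp, hn⟩ := FiniteField.card F p
  obtain ⟨k, hrp, hk⟩ := FiniteField.card K r
  have hpr : r = p := by
    have h1 : r ∣ p ^ ((n : ℕ) * d) := by
      rw [pow_mul, ← hn, ← h, hk]
      exact dvd_pow_self r k.ne_zero
    exact (Nat.prime_dvd_prime_iff_eq hrp hpp).1 (hrp.dvd_of_dvd_pow h1)
  subst hpr
  haveI : Fact r.Prime := ⟨hrp⟩
  letI := ZMod.algebra F r
  letI := ZMod.algebra K r
  have h2 : Module.finrank (ZMod r) F ∣ Module.finrank (ZMod r) K := by
    have e1 := Module.card_eq_pow_finrank (K := ZMod r) (V := F)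
    have e2 := Module.card_eq_pow_finrank (K := ZMod r) (V := K)
    rw [h, e1, ← pow_mul, ZMod.card] at e2
    exact Dvd.intro d (Nat.pow_right_injective hrp.two_le e2)
  exact ⟨(FiniteField.nonempty_algHom_of_finrank_dvd h2).some.toRingHom⟩

/-- A field with `q²` elements over a field with `q` elements has dimension two. -/
theorem finrank_eq_two {F K : Type*} [Field F] [Fintype F] [Field K] [Fintype K] [Algebra F K]
    (h : Fintype.card K = Fintype.card F ^ 2) : Module.finrank F K = 2 := by
  have e := Module.card_eq_pow_finrank (K := F) (V := K)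
  rw [h] at e
  exact (Nat.pow_right_injective Fintype.one_lt_card e).symm

/-- Every monic quadratic polynomial over `F` has a root in a quadratic extension of `F`. -/
theorem exists_root {F K : Type*} [Field F] [Fintype F] [Field K] [Fintype K] [Algebra F K]
    (h : Module.finrank F K = 2) (a c : F) :
    ∃ ω : K, ω ^ 2 + algebraMap F K a * ω + algebraMap F K c = 0 := by
  classical
  by_cases hr : ∃ x : F, x ^ 2 + a * x + c = 0
  · obtain ⟨x, hx⟩ := hr
    refine ⟨algebraMap F K x, ?_⟩
    rw [← map_pow, ← map_mul, ← map_add, ← map_add, hx, map_zero]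
  · let f : Polynomial F := Polynomial.X ^ 2 + Polynomial.C a * Polynomial.X + Polynomial.C c
    have hdeg : f.natDegree = 2 := by simp only [f]; compute_degree!
    have hirr : Irreducible f := by
      refine (Polynomial.irreducible_iff_roots_eq_zero_of_degree_le_three (by omega) (by omega)).2 ?_
      refine Multiset.eq_zero_of_forall_notMem fun x hx => hr ⟨x, ?_⟩
      have := Polynomial.isRoot_of_mem_roots hx
      simpa [f] using this
    haveI := Fact.mk hirr
    have h2 : Module.finrank F (AdjoinRoot f) = 2 := by
      rw [(AdjoinRoot.powerBasis hirr.ne_zero).finrank, AdjoinRoot.powerBasis_dim, hdeg]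
    obtain ⟨φ⟩ := FiniteField.nonempty_algHom_of_finrank_dvd (F := F) (K := AdjoinRoot f) (L := K)
      (by rw [h2, h])
    refine ⟨φ (AdjoinRoot.root f), ?_⟩
    have h0 : AdjoinRoot.root f ^ 2 + algebraMap F (AdjoinRoot f) a * AdjoinRoot.root f +
        algebraMap F (AdjoinRoot f) c = 0 := by
      have := AdjoinRoot.eval₂_root f
      simpa [f, AdjoinRoot.algebraMap_eq] using this
    have := congrArg φ h0
    simpa only [map_add, map_mul, map_pow, AlgHom.commutes, map_zero] using this

end Cfsg.Agent.FieldExt
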