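import Cfsg.Agent.Lib.Field.Descent

/-!
The fixed field of an automorphism of a finite field.
-/

set_option autoImplicit false

namespace Cfsg.Agent.FieldExt

variable {F : Type*} [Field F] [Fintype F]

/-- The fixed field of an automorphism. -/
def fixedField (σ : F ≃+* F) : Subfield F := FixedPoints.subfield (Subgroup.zpowers σ) F

theorem mem_fixedField {σ : F ≃+* F} {a : F} : a ∈ fixedField σ ↔ σ a = a := by
  constructor
  · intro h
    exact h ⟨σ, Subgroup.mem_zpowers σ⟩
  · intro h g
    obtain ⟨g, k, rfl⟩ := g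
    have hs : σ ∈ MulAction.stabilizer (F ≃+* F) a := h
    exact (MulAction.stabilizer (F ≃+* F) a).zpow_mem hs k

theorem finite_ringAut : Finite (F ≃+* F) :=
  Finite.of_injective (fun σ : F ≃+* F => (σ : F → F)) DFunLike.coe_injective

theorem card_fixedField_pow (σ : F ≃+* F) :
    Nat.card (fixedField σ) ^ orderOf σ = Fintype.card F := by
  classical
  haveI := finite_ringAut (F := F)
  haveI := Fintype.ofFinite (Subgroup.zpowers σ)
  haveI : FaithfulSMul (Subgroup.zpowers σ) F := ⟨fun {g h} e => Subtype.ext (RingEquiv.ext e)⟩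
  have h := FixedPoints.finrank_eq_card (Subgroup.zpowers σ) F
  rw [← Nat.card_eq_fintype_card, Nat.card_zpowers] at h
  haveI : Fintype (fixedField σ) := Fintype.ofFinite _
  have h2 := Module.card_eq_pow_finrank (K := fixedField σ) (V := F)
  rw [Nat.card_eq_fintype_card, h2]
  congr 1
  exact h.symm

theorem orderOf_pos' (σ : F ≃+* F) : 0 < orderOf σ := by
  haveI := finite_ringAut (F := F)
  exact orderOf_pos σ

theorem orderOf_dvd_and_card {p f : ℕ} [Fact p.Prime] (hF : Fintype.card F = p ^ f) (σ : F ≃+* F) :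
    orderOf σ ∣ f ∧ Nat.card (fixedField σ) = p ^ (f / orderOf σ) := by
  have h := card_fixedField_pow σ
  rw [hF] at h
  obtain ⟨e, he, hcard⟩ : ∃ e, e ≤ f ∧ Nat.card (fixedField σ) = p ^ e := by
    refine (Nat.dvd_prime_pow Fact.out).1 ?_
    rw [← h]
    exact dvd_pow_self _ (orderOf_pos' σ).ne'
  rw [hcard, ← pow_mul] at h
  have := Nat.pow_right_injective (Fact.out : p.Prime).two_le h
  rw [← this, Nat.mul_div_cancel _ (orderOf_pos' σ)]
  exact ⟨Dvd.intro_left e rfl, hcard⟩

/-- A field of the right size maps onto the fixed field. -/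
theorem exists_ringHom_range {F₀ : Type*} [Field F₀] [Fintype F₀] (σ : F ≃+* F)
    (h : Fintype.card F₀ = Nat.card (fixedField σ)) :
    ∃ ι : F₀ →+* F, ∀ a : F, σ a = a ↔ a ∈ Set.range ι := by
  haveI : Fintype (fixedField σ) := Fintype.ofFinite _
  let e : F₀ ≃+* fixedField σ := FiniteField.ringEquivOfCardEq (by rw [h, Nat.card_eq_fintype_card])
  refine ⟨(fixedField σ).subtype.comp e.toRingHom, fun a => ⟨fun ha => ⟨e.symm ⟨a, mem_fixedField.2 ha⟩, ?_⟩, ?_⟩⟩
  · simp
  · rintro ⟨b, rfl⟩
    exact mem_fixedField.1 (e b).2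

/-- The units fixed by `σ`. -/
def fixedUnits (σ : F ≃+* F) : Subgroup Fˣ where
  carrier := {u | σ (u : F) = u}
  one_mem' := by simp
  mul_mem' {a b} (ha : σ (a : F) = a) (hb : σ (b : F) = b) := by simp [ha, hb]
  inv_mem' {a} (ha : σ (a : F) = a) := by simp [map_inv₀, ha]

omit [Fintype F] in
theorem mem_fixedUnits {σ : F ≃+* F} {u : Fˣ} : u ∈ fixedUnits σ ↔ σ (u : F) = u := Iff.rfl

theorem card_fixedUnits (σ : F ≃+* F) : Nat.card (fixedUnits σ) = Nat.card (fixedField σ) - 1 := by
  classical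
  rw [← Nat.card_units]
  refine Nat.card_congr
    { toFun := fun u => Units.mk0 ⟨((u : Fˣ) : F), mem_fixedField.2 u.2⟩ (fun h => (u : Fˣ).ne_zero (congrArg Subtype.val h))
      invFun := fun v => ⟨Units.map (fixedField σ).subtype.toMonoidHom v, mem_fixedField.1 (v : fixedField σ).2⟩
      left_inv := fun u => Subtype.ext (Units.ext rfl)
      right_inv := fun v => Units.ext (Subtype.ext rfl) }

/-- The fixed units are the `k`-th powers, `k` their index. -/
theorem fixedUnits_eq_range_pow (σ : F ≃+* F) :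
    fixedUnits σ = (powMonoidHom ((Fintype.card F - 1) / (Nat.card (fixedField σ) - 1)) : Fˣ →* Fˣ).range := by
  classical
  set d := Nat.card (fixedField σ) - 1
  set k := (Fintype.card F - 1) / d
  have hd : Nat.card (fixedUnits σ) = d := card_fixedUnits σ
  have hdvd : d ∣ Nat.card Fˣ := hd ▸ Subgroup.card_subgroup_dvd_card _
  have hq : Nat.card Fˣ = Fintype.card F - 1 := by rw [Nat.card_units, Nat.card_eq_fintype_card]
  have hkd : k * d = Nat.card Fˣ := by
    rw [hq] at hdvd ⊢
    exact Nat.div_mul_cancel hdvd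
  have hkercard : Nat.card (powMonoidHom d : Fˣ →* Fˣ).ker = d := by
    rw [IsCyclic.card_powMonoidHom_ker]
    exact Nat.gcd_eq_right hdvd
  have h1 : fixedUnits σ = (powMonoidHom d : Fˣ →* Fˣ).ker := by
    refine Subgroup.eq_of_le_of_card_ge (fun u hu => ?_) (by rw [hd, hkercard])
    rw [MonoidHom.mem_ker, powMonoidHom_apply, ← hd]
    exact congrArg Subtype.val (pow_card_eq_one' (x := (⟨u, hu⟩ : fixedUnits σ)))
  rw [h1]
  refine (Subgroup.eq_of_le_of_card_ge ?_ ?_).symm
  · rintro _ ⟨u, rfl⟩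
    rw [MonoidHom.mem_ker, powMonoidHom_apply, powMonoidHom_apply, ← pow_mul, hkd, pow_card_eq_one']
  · rw [hkercard, IsCyclic.card_powMonoidHom_range, Nat.gcd_eq_right (Dvd.intro d hkd)]
    have hk : 0 < k := Nat.pos_of_ne_zero fun h0 => by
      have := (Nat.card_pos : 0 < Nat.card Fˣ); rw [← hkd, h0, zero_mul] at this; exact lt_irrefl _ this
    rw [← hkd, Nat.mul_div_cancel_left _ hk]

omit [Fintype F] in
/-- Hilbert 90 for units. -/
theorem exists_div_eq (σ : F ≃+* F) {r : ℕ} (hr : 0 < r) (hσ : orderOf σ = r) (c : Fˣ)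
    (hc : ∏ i ∈ Finset.range r, Units.map ((σ ^ i : F ≃+* F) : F →* F) c = 1) :
    ∃ y : Fˣ, c * Units.map (σ : F →* F) y = y := by
  have h1 : ∀ k, twistNorm σ (1 : GL (Fin 1) F) k = 1 := by
    intro k
    induction k with
    | zero => rfl
    | succ k ih => rw [twistNorm_succ, ih, map_one, mul_one]
  have hg : twistNorm σ (Matrix.GeneralLinearGroup.scalar (Fin 1) c) r = 1 := by
    have := twistNorm_mul_scalar σ (1 : GL (Fin 1) F) c r
    rw [one_mul, h1, one_mul, hc, map_one] at this
    exact this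
  obtain ⟨h, hh⟩ := exists_descent σ hr hσ _ hg
  have h0 : h.val 0 0 ≠ 0 := by
    intro h0
    have := (Matrix.isUnit_iff_isUnit_det _).1 h.isUnit
    rw [Matrix.det_fin_one, h0] at this
    exact not_isUnit_zero this
  refine ⟨Units.mk0 _ h0, Units.ext ?_⟩
  have := congrArg (fun A : GL (Fin 1) F => A.val 0 0) hh
  simpa [Matrix.mul_apply, Matrix.GeneralLinearGroup.coe_scalar] using this

end Cfsg.Agent.FieldExt
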