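import Cfsg.Agent.Lib.Field.Fixed

/-!
Non-degenerate hermitian matrices over a finite field are congruent to the identity.
-/

set_option autoImplicit false

open Matrix

namespace Cfsg.Agent.FieldExt

variable {F : Type*} [Field F] [Fintype F] {n : ℕ}

theorem orderOf_invol {σ : F ≃+* F} (hi : ∀ a, σ (σ a) = a) (hne : σ ≠ 1) : orderOf σ = 2 :=
  orderOf_eq_prime (RingEquiv.ext fun a => by rw [sq, RingAut.mul_apply]; exact hi a) hne

theorem exists_norm_invol (σ : F ≃+* F) (hi : ∀ a, σ (σ a) = a) (hne : σ ≠ 1) (c : Fˣ) (hc : σ (c : F) = c) :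
    ∃ z : Fˣ, (z : F) * σ z = c := by
  obtain ⟨z, hz⟩ := exists_prod_eq σ two_pos (orderOf_invol hi hne) c hc
  refine ⟨z, ?_⟩
  have := congrArg Units.val hz
  rw [show (2 : ℕ) = 0 + 1 + 1 from rfl, Finset.prod_range_succ, Finset.prod_range_succ, Finset.prod_range_zero,
    one_mul] at this
  simpa using this

/-- A hermitian invertible matrix is `h hσᵀ`. -/
theorem exists_herm_factor (σ : F ≃+* F) (hi : ∀ a, σ (σ a) = a) (hne : σ ≠ 1) (M : GL (Fin n) F)
    (hM : (M.val.map σ).transpose = M.val) :
    ∃ h : GL (Fin n) F, h.val * (h.val.map σ).transpose = M.val := by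
  classical
  let B : (Fin n → F) → (Fin n → F) → F := fun u v => u ⬝ᵥ (M.val *ᵥ (σ ∘ v))
  have hσadd : ∀ v w : Fin n → F, σ ∘ (v + w) = σ ∘ v + σ ∘ w := fun v w => funext fun i => map_add σ _ _
  have hσsmul : ∀ (a : F) (v : Fin n → F), σ ∘ (a • v) = σ a • (σ ∘ v) := fun a v => funext fun i => map_mul σ _ _
  have hBadd : ∀ u u' v, B (u + u') v = B u v + B u' v := fun u u' v => add_dotProduct _ _ _
  have hBadd' : ∀ u v v', B u (v + v') = B u v + B u v' := fun u v v' => by
    simp only [B, hσadd, Matrix.mulVec_add, dotProduct_add]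
  have hBsmul : ∀ (a : F) u v, B (a • u) v = a * B u v := fun a u v => smul_dotProduct _ _ _
  have hBsmul' : ∀ (a : F) u v, B u (a • v) = σ a * B u v := fun a u v => by
    simp only [B, hσsmul, Matrix.mulVec_smul, dotProduct_smul, smul_eq_mul]
  have hBherm : ∀ u v, σ (B u v) = B v u := by
    intro u v
    have hM' : ∀ i j, σ (M.val i j) = M.val j i := fun i j => congrFun (congrFun hM j) i
    simp only [B, dotProduct, Matrix.mulVec, map_sum, map_mul, Function.comp_apply, hi, hM', Finset.mul_sum]
    rw [Finset.sum_comm]
    exact Finset.sum_congr rfl fun i _ => Finset.sum_congr rfl fun j _ => by ring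
  have hnd : ∀ u, (∀ v, B u v = 0) → u = 0 := by
    intro u h
    have h1 : ∀ w, u ⬝ᵥ (M.val *ᵥ w) = 0 := fun w => by
      have := h (σ ∘ w)
      simpa [B, Function.comp_def, hi] using this
    have h2 : u ᵥ* M.val = 0 := dotProduct_eq_zero_iff.1 fun w => by rw [← Matrix.dotProduct_mulVec]; exact h1 w
    have := congrArg (fun x => x ᵥ* (M⁻¹ : GL (Fin n) F).val) h2
    simpa [Matrix.vecMul_vecMul] using this
  have hexists : ∀ k, k ≤ n → ∃ e : Fin k → (Fin n → F), ∀ a b, B (e a) (e b) = if a = b then 1 else 0 := by
    intro k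
    induction k with
    | zero => exact fun _ => ⟨fun a => a.elim0, fun a => a.elim0⟩
    | succ k ih =>
      intro hk
      obtain ⟨e, he⟩ := ih (by omega)
      let L : (Fin n → F) →ₗ[F] (Fin k → F) :=
        { toFun := fun x l => B x (e l)
          map_add' := fun x y => funext fun l => hBadd _ _ _
          map_smul' := fun a x => funext fun l => hBsmul _ _ _ }
      obtain ⟨x, hxL, hx⟩ : ∃ x, L x = 0 ∧ x ≠ 0 := by
        by_contra h
        push Not at h
        have := LinearMap.finrank_le_finrank_of_injective (f := L) ((injective_iff_map_eq_zero _).2 h)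
        simp at this
        omega
      have hxW : ∀ l, B x (e l) = 0 := fun l => congrFun hxL l
      obtain ⟨y₀, hy₀⟩ : ∃ y₀, B x y₀ ≠ 0 := by
        by_contra h
        push Not at h
        exact hx (hnd x h)
      let y := y₀ - ∑ l, B y₀ (e l) • e l
      have hsum : ∀ (s : Finset (Fin k)) (c : Fin k → F) v, B (∑ l ∈ s, c l • e l) v = ∑ l ∈ s, c l * B (e l) v := by
        intro s c v
        induction s using Finset.induction_on with
        | empty => simp [B]
        | insert a s ha ih2 => rw [Finset.sum_insert ha, Finset.sum_insert ha, hBadd, hBsmul, ih2]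
      have hBsub : ∀ u u' v, B (u - u') v = B u v - B u' v := fun u u' v => sub_dotProduct _ _ _
      have hyW : ∀ l, B y (e l) = 0 := by
        intro l
        simp only [y]
        rw [hBsub, hsum]
        simp [he]
      have hyx : B y x ≠ 0 := by
        simp only [y]
        rw [hBsub, hsum]
        have : ∀ l, B (e l) x = 0 := fun l => by rw [← hBherm, hxW l, map_zero]
        simp only [this, mul_zero, Finset.sum_const_zero, sub_zero]
        intro h0
        exact hy₀ (by rw [← hBherm, h0, map_zero])
      obtain ⟨w, hwW, hw⟩ : ∃ w, (∀ l, B w (e l) = 0) ∧ B w w ≠ 0 := by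
        by_cases hxx : B x x = 0
        · by_cases hyy : B y y = 0
          · obtain ⟨c, hc⟩ : ∃ c : F, c * B y x + σ (c * B y x) ≠ 0 := by
              obtain ⟨z, hz⟩ : ∃ z : F, z + σ z ≠ 0 := by
                by_contra h
                push Not at h
                have h1 := h 1
                rw [map_one] at h1
                exact hne (RingEquiv.ext fun a => by
                  show σ a = a
                  linear_combination h a - a * h1)
              exact ⟨z / B y x, by rwa [div_mul_cancel₀ _ hyx]⟩
            refine ⟨x + c • y, fun l => by rw [hBadd, hBsmul, hxW, hyW, mul_zero, add_zero], ?_⟩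
            rw [hBadd, hBadd', hBadd', hBsmul, hBsmul, hBsmul', hBsmul', hxx, hyy, ← hBherm y x]
            rw [map_mul] at hc
            intro h0
            exact hc (by linear_combination h0)
          · exact ⟨y, hyW, hyy⟩
        · exact ⟨x, hxW, hxx⟩
      obtain ⟨z, hz⟩ := exists_norm_invol σ hi hne (Units.mk0 (B w w) hw) (hBherm w w)
      have hz0 : (z : F) ≠ 0 := z.ne_zero
      refine ⟨Fin.snoc e ((z : F)⁻¹ • w), fun a b => ?_⟩
      have hlast : B ((z : F)⁻¹ • w) ((z : F)⁻¹ • w) = 1 := by
        rw [hBsmul, hBsmul', map_inv₀, show B w w = (z : F) * σ z from hz.symm]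
        field_simp [(map_ne_zero σ).2 hz0]
      induction a using Fin.lastCases with
      | last =>
        induction b using Fin.lastCases with
        | last => simp [hlast]
        | cast b => simp [hBsmul, hwW, Fin.castSucc_ne_last b |>.symm]
      | cast a =>
        induction b using Fin.lastCases with
        | last =>
          have : B (e a) w = 0 := by rw [← hBherm, hwW, map_zero]
          simp [hBsmul', this, Fin.castSucc_ne_last a]
        | cast b => simp [he, Fin.castSucc_inj]
  obtain ⟨e, he⟩ := hexists n le_rfl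
  let E : Matrix (Fin n) (Fin n) F := Matrix.of e
  have hE : E * M.val * (E.map σ).transpose = 1 := by
    ext a b
    rw [Matrix.one_apply, ← he a b]
    simp only [B, E, Matrix.mul_apply, dotProduct, Matrix.mulVec, Matrix.of_apply, Matrix.transpose_apply,
      Matrix.map_apply, Function.comp_apply, Finset.mul_sum, Finset.sum_mul]
    rw [Finset.sum_comm]
    exact Finset.sum_congr rfl fun i _ => Finset.sum_congr rfl fun j _ => by ring
  have hdet : IsUnit E.det := by
    refine IsUnit.of_mul_eq_one ((M.val * (E.map σ).transpose).det) ?_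
    rw [← Matrix.det_mul, ← Matrix.mul_assoc, hE, Matrix.det_one]
  let E' : GL (Fin n) F := Matrix.nonsingInvUnit E hdet
  have hmapinv : ((E'⁻¹).val.map σ).transpose * (E.map σ).transpose = 1 ∧
      (E.map σ).transpose * ((E'⁻¹).val.map σ).transpose = 1 := by
    constructor <;>
      rw [← Matrix.transpose_mul, show E = E'.val from rfl, ← Matrix.map_mul] <;>
      simp
  refine ⟨E'⁻¹, ?_⟩
  calc (E'⁻¹).val * ((E'⁻¹).val.map σ).transpose
      = (E'⁻¹).val * (E'.val * M.val * (E.map σ).transpose) * ((E'⁻¹).val.map σ).transpose := by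
        rw [show E'.val = E from rfl, hE, Matrix.mul_one]
    _ = ((E'⁻¹).val * E'.val) * M.val * ((E.map σ).transpose * ((E'⁻¹).val.map σ).transpose) := by
        simp only [Matrix.mul_assoc]
    _ = M.val := by rw [Units.inv_mul, hmapinv.2, Matrix.one_mul, Matrix.mul_one]

end Cfsg.Agent.FieldExt
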